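import Cfsg.Agent.Tits.Exchange
import Cfsg.Agent.LieExceptional.CoxeterExchange
import Cfsg.Agent.LieRecognition.CoxForm

/-!
# The Coxeter system of a standard parabolic subgroup (helper2)

`MJ M J` is the submatrix, `csJ cs J : CoxeterSystem (MJ M J) (WJ cs J)`; lengths and parabolic subgroups agree.
-/

set_option autoImplicit false
set_option linter.unusedSectionVars false

namespace Cfsg.Agent.ODD.Hk

open CoxeterSystem Cfsg.Agent.Tits.Exchange Cfsg.Agent.Tits.Core
open Cfsg.Agent.LieExceptional

variable {I W : Type*} {M : CoxeterMatrix I} [Group W]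

/-- the submatrix -/
def MJ (M : CoxeterMatrix I) (J : Set I) : CoxeterMatrix J where
  M := Matrix.of fun i j => M i j
  isSymm := by
    ext i j
    exact M.symmetric _ _
  diagonal := fun i => M.diagonal _
  off_diagonal := fun i j h => M.off_diagonal _ _ fun e => h (Subtype.ext e)

theorem MJ_apply (M : CoxeterMatrix I) (J : Set I) (i j : J) : MJ M J i j = M i j := rfl

variable (cs : CoxeterSystem M W) [Finite W] [Finite I]

theorem ord_eq (i j : I) : orderOf (cs.simple i * cs.simple j) = M i j := by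
  classical
  let _ : Fintype I := Fintype.ofFinite I
  exact LieRecognition.CoxForm.orderOf_eq cs i j

theorem simple_inj : Function.Injective cs.simple := by
  intro i j h
  by_contra hne
  have h1 := ord_eq cs i j
  rw [h, cs.simple_mul_simple_self, orderOf_one] at h1
  exact M.off_diagonal i j hne h1.symm

/-- the generators of `W_J` -/
def gJ (J : Set I) (j : J) : WJ cs J := ⟨cs.simple j, simple_mem_WJ cs j.2⟩

theorem wp_gJ (J : Set I) (ω : List J) :
    ((CoxeterExchange.wp (gJ cs J) ω : WJ cs J) : W) = cs.wordProd (ω.map Subtype.val) := by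
  induction ω with
  | nil => simp [CoxeterExchange.wp_nil]
  | cons j ω ih => rw [CoxeterExchange.wp_cons, List.map_cons, cs.wordProd_cons, ← ih]; rfl

theorem exists_lift {J : Set I} {ω : List I} (h : ∀ i ∈ ω, i ∈ J) : ∃ ω' : List J, ω'.map Subtype.val = ω := by
  induction ω with
  | nil => exact ⟨[], rfl⟩
  | cons i ω ih =>
    obtain ⟨ω', h'⟩ := ih fun k hk => h k (List.mem_cons_of_mem _ hk)
    exact ⟨⟨i, h i List.mem_cons_self⟩ :: ω', by rw [List.map_cons, h']⟩

theorem isRed_iff (J : Set I) (ω : List J) :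
    CoxeterExchange.IsRed (gJ cs J) ω ↔ cs.IsReduced (ω.map Subtype.val) := by
  constructor
  · intro h
    obtain ⟨ω₁, h1, h2, h3⟩ := exists_reduced_of_mem_WJ cs (CoxeterExchange.wp (gJ cs J) ω).2
    obtain ⟨ω', rfl⟩ := exists_lift h1
    have h4 := h ω' (Subtype.ext (by rw [wp_gJ, h3]))
    rw [wp_gJ] at h3
    have h5 : cs.length (cs.wordProd (ω.map Subtype.val)) = ω'.length := by
      rw [← h3, h2.eq, List.length_map]
    have h6 := cs.length_wordProd_le (ω.map Subtype.val)
    show cs.length _ = _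
    rw [List.length_map] at h6 ⊢
    omega
  · intro h ω' h'
    have h1 := congrArg Subtype.val h'
    rw [wp_gJ, wp_gJ] at h1
    have h2 := cs.length_wordProd_le (ω'.map Subtype.val)
    rw [h1, h.eq, List.length_map, List.length_map] at h2
    exact h2

theorem exchange_gJ (J : Set I) : CoxeterExchange.Exchange (gJ cs J) := by
  intro b ω h1 h2
  rw [isRed_iff] at h1 h2
  have h3 : cs.length (cs.simple b * cs.wordProd (ω.map Subtype.val)) < cs.length (cs.wordProd (ω.map Subtype.val)) := by
    rcases cs.length_simple_mul (cs.wordProd (ω.map Subtype.val)) b with h | h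
    · exfalso
      apply h2
      show cs.length _ = _
      rw [List.map_cons, cs.wordProd_cons, h, h1.eq, List.length_cons]
    · omega
  obtain ⟨k, hk, e⟩ := exchange_left cs h3
  rw [List.length_map] at hk
  refine ⟨ω.take k, ω[k], ω.drop (k + 1), by simp, Subtype.ext ?_⟩
  have h4 : ω.map Subtype.val = (ω.take k).map Subtype.val ++ (ω[k] : I) :: (ω.drop (k + 1)).map Subtype.val := by
    conv_lhs => rw [show ω = ω.take k ++ ω[k] :: ω.drop (k + 1) by simp]
    rw [List.map_append, List.map_cons]
  have h5 : (ω.map Subtype.val).eraseIdx k = (ω.take k).map Subtype.val ++ (ω.drop (k + 1)).map Subtype.val := by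
    rw [List.eraseIdx_eq_take_drop_succ, List.map_take, List.map_drop]
  rw [h5, cs.wordProd_append] at e
  rw [h4, cs.wordProd_append, cs.wordProd_cons] at e
  show cs.simple b * ((CoxeterExchange.wp (gJ cs J) (ω.take k) : WJ cs J) : W) =
    ((CoxeterExchange.wp (gJ cs J) (ω.take k) : WJ cs J) : W) * cs.simple (ω[k] : I)
  rw [wp_gJ]
  have h6 : cs.simple b * cs.wordProd ((ω.take k).map Subtype.val) * cs.simple (ω[k] : I) =
      cs.wordProd ((ω.take k).map Subtype.val) := by
    apply mul_right_cancel (b := cs.wordProd ((ω.drop (k + 1)).map Subtype.val))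
    rw [← e]
    simp only [mul_assoc]
  calc _ = cs.simple b * cs.wordProd ((ω.take k).map Subtype.val) * cs.simple (ω[k] : I) * cs.simple (ω[k] : I) := by
        rw [mul_assoc _ (cs.simple _) (cs.simple _), cs.simple_mul_simple_self, mul_one]
    _ = _ := by rw [h6]

theorem exists_csJ (J : Set I) : ∃ c : CoxeterSystem (MJ M J) (WJ cs J), ∀ j, c.simple j = gJ cs J j := by
  have hsq : ∀ b, gJ cs J b * gJ cs J b = 1 := fun b => Subtype.ext (cs.simple_mul_simple_self b)
  have hinj : Function.Injective (gJ cs J) := fun a b h =>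
    Subtype.ext (simple_inj cs (congrArg Subtype.val h))
  have h := CoxeterExchange.exists_coxeterSystem hsq hinj (exchange_gJ cs J) (fun w => by
    obtain ⟨ω, h1, h2⟩ := exists_word_of_mem_WJ cs w.2
    obtain ⟨ω', rfl⟩ := exists_lift h1
    exact ⟨ω', Subtype.ext (by rw [wp_gJ, h2])⟩)
  have e : CoxeterExchange.coxMatrix (gJ cs J) hsq hinj = MJ M J := by
    ext a b
    show orderOf (gJ cs J a * gJ cs J b) = M a b
    rw [← ord_eq cs, ← Subgroup.orderOf_coe]
    rfl
  rw [e] at h
  exact h

/-- the Coxeter system of `W_J` -/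
noncomputable def csJ (J : Set I) : CoxeterSystem (MJ M J) (WJ cs J) := (exists_csJ cs J).choose

theorem csJ_simple (J : Set I) (j : J) : (((csJ cs J).simple j : WJ cs J) : W) = cs.simple j := by
  unfold csJ
  rw [(exists_csJ cs J).choose_spec]
  rfl

theorem csJ_wordProd (J : Set I) (ω : List J) :
    (((csJ cs J).wordProd ω : WJ cs J) : W) = cs.wordProd (ω.map Subtype.val) := by
  induction ω with
  | nil => simp
  | cons j ω ih => rw [wordProd_cons, List.map_cons, cs.wordProd_cons, ← ih, ← csJ_simple]; rfl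

theorem csJ_length (J : Set I) (w : WJ cs J) : (csJ cs J).length w = cs.length (w : W) := by
  apply le_antisymm
  · obtain ⟨ω₁, h1, h2, h3⟩ := exists_reduced_of_mem_WJ cs w.2
    obtain ⟨ω', rfl⟩ := exists_lift h1
    have h4 : (csJ cs J).wordProd ω' = w := Subtype.ext (by rw [csJ_wordProd, h3])
    have h5 := (csJ cs J).length_wordProd_le ω'
    rw [h4] at h5
    rw [← h3, h2.eq, List.length_map]
    exact h5
  · obtain ⟨ω, h1, h2⟩ := (csJ cs J).exists_isReduced w
    have h3 := cs.length_wordProd_le (ω.map Subtype.val)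
    rw [← csJ_wordProd, ← h2, List.length_map] at h3
    rw [h2, h1.eq, ← h2]
    exact h3

theorem mem_WJ_csJ {J : Set I} {K : Set J} {w : WJ cs J} :
    w ∈ WJ (csJ cs J) K ↔ (w : W) ∈ WJ cs (Subtype.val '' K) := by
  constructor
  · intro h
    obtain ⟨ω, h1, rfl⟩ := exists_word_of_mem_WJ _ h
    rw [csJ_wordProd]
    refine wordProd_mem_WJ cs fun i hi => ?_
    obtain ⟨k, hk, rfl⟩ := List.mem_map.1 hi
    exact ⟨k, h1 k hk, rfl⟩
  · intro h
    obtain ⟨ω, h1, h2⟩ := exists_word_of_mem_WJ _ h
    obtain ⟨ω', rfl⟩ := exists_lift (J := J) (ω := ω) fun i hi => by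
      obtain ⟨k, -, rfl⟩ := h1 i hi
      exact k.2
    have h3 : (csJ cs J).wordProd ω' = w := Subtype.ext (by rw [csJ_wordProd, h2])
    rw [← h3]
    refine wordProd_mem_WJ _ fun i hi => ?_
    obtain ⟨k, hk, e⟩ := h1 i (List.mem_map.2 ⟨i, hi, rfl⟩)
    rw [← Subtype.ext e]
    exact hk

end Cfsg.Agent.ODD.Hk
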